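import Mathlib.LinearAlgebra.PiTensorProduct.Basic
import Mathlib.LinearAlgebra.PiTensorProduct.Basis
import Mathlib.RingTheory.PiTensorProduct
import Mathlib.Algebra.MvPolynomial.Funext
import Mathlib.LinearAlgebra.Dual.Lemmas
import Mathlib.FieldTheory.PurelyInseparable.Basic
import Mathlib.FieldTheory.Perfect
import Mathlib.Logic.Equiv.Fintype

/-! Symmetric tensors over an infinite field are spanned by pure powers; consequences for purely
inseparable extensions. -/

set_option autoImplicit false

universe u

open scoped TensorProduct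

noncomputable section

namespace LeadSymSn

variable {K : Type u} [Field K]

/-- multiplicities -/
def cnt {ι : Type*} {d : ℕ} (w : Fin d → ι) : ι →₀ ℕ := ∑ j, Finsupp.single (w j) 1

lemma exists_perm_of_cnt_eq {ι : Type*} {d : ℕ} (w w' : Fin d → ι) (h : cnt w = cnt w') :
    ∃ σ : Equiv.Perm (Fin d), ∀ j, w' (σ j) = w j := by
  classical
  have hcard : ∀ (v : Fin d → ι) (i : ι), Fintype.card {j // v j = i} = cnt v i := by
    intro v i
    simp [cnt, Finsupp.finset_sum_apply, Finsupp.single_apply, Fintype.card_subtype, Finset.sum_boole]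
  exact ⟨Equiv.ofFiberEquiv fun i => Fintype.equivOfCardEq
      (by rw [hcard, hcard, h]), fun j => Equiv.ofFiberEquiv_map _ j⟩

variable {V : Type u} [AddCommGroup V] [Module K V] [Module.Finite K V]

/-- over an infinite field, a form killing all pure powers kills symmetric tensors -/
theorem apply_eq_zero_of_symm [Infinite K] {d : ℕ} (Φ : (⨂[K] _ : Fin d, V) →ₗ[K] K)
    (hΦ : ∀ v : V, Φ (PiTensorProduct.tprod K (fun _ => v)) = 0) (s : ⨂[K] _ : Fin d, V)
    (hs : ∀ σ : Equiv.Perm (Fin d), PiTensorProduct.reindex K (fun _ : Fin d => V) σ s = s) : Φ s = 0 := by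
  classical
  let ι := Module.Free.ChooseBasisIndex K V
  let b := Module.Free.chooseBasis K V
  let E := Basis.piTensorProduct (fun _ : Fin d => b)
  let f : (Fin d → ι) → K := fun w => E.repr s w
  let g : (Fin d → ι) → K := fun w => Φ (E w)
  have hf : ∀ (σ : Equiv.Perm (Fin d)) (w : Fin d → ι), f (fun j => w (σ j)) = f w := by
    intro σ w
    have key : ∀ t : ⨂[K] _ : Fin d, V, E.repr (PiTensorProduct.reindex K (fun _ : Fin d => V) σ t) w =
        E.repr t (fun j => w (σ j)) := by
      intro t
      induction t using PiTensorProduct.induction_on with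
      | add p q hp hq => simp [hp, hq]
      | smul_tprod r v =>
        simp only [map_smul, Finsupp.smul_apply, E, PiTensorProduct.reindex_tprod,
          Basis.piTensorProduct_repr_tprod_apply]
        congr 1
        exact (Equiv.prod_comp σ (fun i => (b.repr (v (σ.symm i))) (w i))).symm.trans
          (Finset.prod_congr rfl fun j _ => by simp)
    show E.repr s (fun j => w (σ j)) = E.repr s w
    rw [← key s, hs σ]
  let P : MvPolynomial ι K := ∑ w : Fin d → ι, MvPolynomial.monomial (cnt w) (g w)
  have hP : P = 0 := by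
    refine MvPolynomial.funext fun c => ?_
    rw [map_zero, ← hΦ (∑ i, c i • b i)]
    simp only [MultilinearMap.map_sum, MultilinearMap.map_smul_univ, map_sum, map_smul, smul_eq_mul, P]
    refine Finset.sum_congr rfl fun w _ => ?_
    have hm : MvPolynomial.monomial (cnt w) (g w) = MvPolynomial.C (g w) * ∏ j, MvPolynomial.X (w j) := by
      rw [show MvPolynomial.monomial (cnt w) (g w) =
        MvPolynomial.C (g w) * MvPolynomial.monomial (cnt w) 1 by simp [MvPolynomial.C_mul_monomial]]
      simp [cnt, MvPolynomial.monomial_sum_one, MvPolynomial.X]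
    rw [hm]
    simp [g, E, mul_comm]
  have hs' : Φ s = ∑ w : Fin d → ι, f w * g w := by
    conv_lhs => rw [← E.sum_repr s, map_sum]
    exact Finset.sum_congr rfl fun w _ => by rw [map_smul, smul_eq_mul]
  rw [hs', ← Finset.sum_fiberwise_of_maps_to (t := Finset.univ.image (cnt (ι := ι) (d := d)))
    (fun w hw => Finset.mem_image_of_mem cnt hw)]
  refine Finset.sum_eq_zero fun m hm => ?_
  obtain ⟨w₀, -, rfl⟩ := Finset.mem_image.1 hm
  have hcoef : ∑ w ∈ Finset.univ.filter (fun w => cnt w = cnt w₀), g w = 0 := by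
    have := congrArg (MvPolynomial.coeff (cnt w₀)) hP
    simpa [P, MvPolynomial.coeff_sum, MvPolynomial.coeff_monomial, Finset.sum_filter] using this
  refine Eq.trans (Finset.sum_congr rfl fun w hw => ?_)
    ((Finset.mul_sum _ _ (f w₀)).symm.trans (by rw [hcoef, mul_zero]))
  obtain ⟨σ, hσ⟩ := exists_perm_of_cnt_eq w w₀ (Finset.mem_filter.1 hw).2
  rw [← hf σ w₀, show (fun j => w₀ (σ j)) = w from funext hσ]

variable {L : Type u} [Field L] [Algebra K L]

theorem lift_mem_range [IsPurelyInseparable K L] {d : ℕ} (hd : 0 < d) (hdvd : Module.finrank K L ∣ d)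
    (s : ⨂[K] _ : Fin d, L)
    (hs : ∀ σ : Equiv.Perm (Fin d), PiTensorProduct.reindex K (fun _ : Fin d => L) σ s = s) :
    PiTensorProduct.lift (MultilinearMap.mkPiAlgebra K (Fin d) L) s ∈ (algebraMap K L).range := by
  haveI : Module.Finite K L := Module.finite_of_finrank_pos (Nat.pos_of_ne_zero fun h => by
    rw [h, zero_dvd_iff] at hdvd; omega)
  rcases finite_or_infinite K with hK | hK
  · exact IsPurelyInseparable.surjective_algebraMap_of_isSeparable K L _
  have hpow : ∀ z : L, z ^ d ∈ (algebraMap K L).range := by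
    intro z
    haveI := ringExpChar.expChar K
    obtain ⟨n, y, hy⟩ := IsPurelyInseparable.minpoly_eq_X_pow_sub_C K (ringExpChar K) z
    have hq : ringExpChar K ^ n ∣ d := by
      refine dvd_trans ?_ hdvd
      have := minpoly.degree_dvd (K := K) (x := z) (Algebra.IsIntegral.isIntegral z)
      rwa [hy, Polynomial.natDegree_X_pow_sub_C] at this
    obtain ⟨e, he⟩ := hq
    refine ⟨y ^ e, ?_⟩
    have h0 : Polynomial.aeval z (minpoly K z) = 0 := minpoly.aeval K z
    rw [hy, map_sub, Polynomial.aeval_X_pow, Polynomial.aeval_C, sub_eq_zero] at h0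
    rw [map_pow, ← h0, ← pow_mul, he]
  let W : Submodule K L := LinearMap.range (Algebra.linearMap K L)
  suffices h : PiTensorProduct.lift (MultilinearMap.mkPiAlgebra K (Fin d) L) s ∈ W by
    simpa [W] using h
  refine (Subspace.forall_mem_dualAnnihilator_apply_eq_zero_iff W _).1 fun ψ hψ => ?_
  refine apply_eq_zero_of_symm (ψ ∘ₗ PiTensorProduct.lift (MultilinearMap.mkPiAlgebra K (Fin d) L))
    (fun v => ?_) s hs
  simp only [LinearMap.comp_apply, PiTensorProduct.lift.tprod, MultilinearMap.mkPiAlgebra_apply,
    Finset.prod_const, Finset.card_univ, Fintype.card_fin]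
  obtain ⟨y, hy⟩ := hpow v
  exact (Submodule.mem_dualAnnihilator ψ).1 hψ _ ⟨y, by simpa using hy⟩

end LeadSymSn
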