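import Groth.Prelude.Def_HTop2
import Mathlib.RingTheory.Ideal.GoingUp
import Mathlib.RingTheory.Ideal.MinimalPrime.Basic
import Mathlib.RingTheory.LocalRing.ResidueField.Ideal
import Mathlib.RingTheory.IntegralClosure.IsIntegralClosure.Basic

/-! Elements of a reduced finite extension of a seminormal ring with trivial residues. -/

set_option autoImplicit false

universe u

noncomputable section

namespace LeadSymSn

variable {C : Type u} [CommRing C]

theorem isReduced_of_seminormal (hC : HTop.IsSeminormalRing C) : IsReduced C := by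
  refine (isReduced_iff_pow_one_lt 2 one_lt_two).2 fun x hx => ?_
  obtain ⟨a, -, huniq⟩ := hC 0 0 (by simp)
  have h1 := huniq x ⟨hx.symm, by rw [pow_succ, hx, zero_mul]⟩
  have h2 := huniq 0 ⟨by simp, by simp⟩
  exact h1.trans h2.symm

variable {C' : Type u} [CommRing C'] [Algebra C C'] [IsReduced C']

theorem mem_range_of_sq_cube (hC : HTop.IsSeminormalRing C) (hinj : Function.Injective (algebraMap C C'))
    {z : C'} (h2 : z ^ 2 ∈ (algebraMap C C').range) (h3 : z ^ 3 ∈ (algebraMap C C').range) :
    z ∈ (algebraMap C C').range := by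
  obtain ⟨b, hb⟩ := h2
  obtain ⟨c, hc⟩ := h3
  obtain ⟨a, ⟨ha2, ha3⟩, -⟩ := hC b c (hinj (by simp only [map_pow, hb, hc, ← pow_mul]))
  refine ⟨a, ?_⟩
  rw [ha2, map_pow] at hb
  rw [ha3, map_pow] at hc
  have : (algebraMap C C' a - z) ^ 3 = 0 := by
    linear_combination (4 : C') * hc - 3 * z * hb - 3 * (algebraMap C C' a) * hb
  exact sub_eq_zero.1 (IsReduced.eq_zero _ ⟨3, this⟩)

theorem mem_range_of_residues (hC : HTop.IsSeminormalRing C) (hinj : Function.Injective (algebraMap C C'))
    [Algebra.IsIntegral C C'] (hpts : Function.Injective (PrimeSpectrum.comap (algebraMap C C')))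
    (y : C') (hy : ∀ Q : PrimeSpectrum C', ∃ s c : C, algebraMap C C' s ∉ Q.asIdeal ∧
      algebraMap C C' s * y - algebraMap C C' c ∈ Q.asIdeal) :
    y ∈ (algebraMap C C').range := by
  let D : Subalgebra C C' := Algebra.adjoin C {y}
  let G : Ideal D :=
    { carrier := {z : D | ∀ w : D, (z : C') * (w : C') ∈ (algebraMap C C').range}
      zero_mem' := fun w => by simp
      add_mem' := fun ha hb w => by
        push_cast
        rw [add_mul]
        exact add_mem (ha w) (hb w)
      smul_mem' := fun a z hz w => by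
        have := hz (a * w)
        push_cast at this
        rw [smul_eq_mul]
        push_cast
        rwa [mul_comm (a : C'), mul_assoc] }
  have hroot : ∀ (n : ℕ) (z : D), z ^ (n + 1) ∈ G → z ∈ G := by
    intro n
    induction n with
    | zero => intro z hz; simpa using hz
    | succ n ih =>
      intro z hz
      refine ih z fun w => ?_
      refine mem_range_of_sq_cube hC hinj ?_ ?_
      · have := hz (z ^ n * w ^ 2)
        push_cast at this ⊢
        convert this using 1
        ring
      · have := hz (z ^ (2 * n + 1) * w ^ 3)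
        push_cast at this ⊢
        convert this using 1
        ring
  by_contra hyr
  let I : Ideal C := G.comap (algebraMap C D)
  have hI : I ≠ ⊤ := fun h => hyr (by
    have h1 : (1 : C) ∈ I := h ▸ Submodule.mem_top
    have h2 : algebraMap C D 1 ∈ G := h1
    rw [map_one] at h2
    simpa using h2 ⟨y, Algebra.subset_adjoin rfl⟩)
  obtain ⟨p, hp⟩ := Ideal.nonempty_minimalPrimes hI
  haveI := hp.isPrime
  obtain ⟨Q, -, hQ, hQp⟩ := Ideal.exists_ideal_over_prime_of_isIntegral (S := C') p ⊥
    (by rw [← RingHom.ker_eq_comap_bot, (RingHom.injective_iff_ker_eq_bot _).1 hinj]; exact bot_le)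
  haveI := hQ
  obtain ⟨s, c, hs, ht⟩ := hy ⟨Q, hQ⟩
  have hsp : s ∉ p := fun h => hs (by rw [← Ideal.mem_comap, hQp]; exact h)
  let t : D := algebraMap C D s * ⟨y, Algebra.subset_adjoin rfl⟩ - algebraMap C D c
  let M : Submonoid D :=
    { carrier := {m | ∃ s' : C, s' ∉ p ∧ ∃ j : ℕ, m = algebraMap C D s' * t ^ j}
      one_mem' := ⟨1, fun h => hp.isPrime.ne_top ((Ideal.eq_top_iff_one p).2 h), 0, by simp⟩
      mul_mem' := by
        rintro _ _ ⟨a, ha, i, rfl⟩ ⟨b, hb, j, rfl⟩
        exact ⟨a * b, fun h => (hp.isPrime.mem_or_mem h).elim ha hb, i + j, by rw [map_mul]; ring⟩ }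
  obtain ⟨m, hmG, s', hs', j, rfl⟩ : ∃ m, m ∈ G ∧ m ∈ M := by
    by_contra hno
    push Not at hno
    obtain ⟨q, hq, hGq, hdisj⟩ := Ideal.exists_le_prime_disjoint G M
      (Set.disjoint_left.2 fun a ha => hno a ha)
    haveI := hq
    have hqp : q.comap (algebraMap C D) ≤ p := fun a ha => by
      by_contra hap
      exact Set.disjoint_left.1 hdisj ha ⟨a, hap, 0, by simp⟩
    have hqp' : q.comap (algebraMap C D) = p :=
      le_antisymm hqp (hp.2 ⟨inferInstance, Ideal.comap_mono hGq⟩ hqp)
    have hD : Function.Injective (algebraMap D C') := Subtype.val_injective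
    haveI : Algebra.IsIntegral D C' := Algebra.IsIntegral.tower_top C
    obtain ⟨Q', -, hQ', hQ'q⟩ := Ideal.exists_ideal_over_prime_of_isIntegral (S := C') q ⊥
      (by rw [← RingHom.ker_eq_comap_bot, (RingHom.injective_iff_ker_eq_bot _).1 hD]; exact bot_le)
    have heq : Q' = Q := congrArg PrimeSpectrum.asIdeal
      (hpts (a₁ := ⟨Q', hQ'⟩) (a₂ := ⟨Q, hQ⟩) (PrimeSpectrum.ext (by
        show Q'.comap (algebraMap C C') = Q.comap (algebraMap C C')
        rw [hQp, ← hqp', ← hQ'q, Ideal.comap_comap]
        rfl)))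
    have htq : t ∈ q := by
      rw [← hQ'q, Ideal.mem_comap, heq]
      exact ht
    exact Set.disjoint_left.1 hdisj htq
      ⟨1, fun h => hp.isPrime.ne_top ((Ideal.eq_top_iff_one p).2 h), 1, by simp⟩
  cases j with
  | zero => exact hs' (hp.le (show algebraMap C D s' ∈ G by simpa using hmG))
  | succ j =>
    have hmem : algebraMap C D s' * t ∈ G := hroot j _ (by
      have := G.mul_mem_left (algebraMap C D s' ^ j) hmG
      rw [mul_pow, pow_succ (algebraMap C D s'), mul_assoc]
      exact this)
    set u := s' * s with hu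
    have hup : u ∉ p := fun h => (hp.isPrime.mem_or_mem h).elim hs' hsp
    have huy : algebraMap C C' u * y ∈ (algebraMap C C').range := by
      obtain ⟨a, ha⟩ := hmem 1
      refine ⟨a + s' * c, ?_⟩
      simp only [t, OneMemClass.coe_one, mul_one, MulMemClass.coe_mul, AddSubgroupClass.coe_sub,
        Subalgebra.coe_algebraMap] at ha
      rw [map_add, ha, hu, map_mul, map_mul]
      ring
    obtain ⟨P, hPm, hP⟩ := Algebra.IsIntegral.isIntegral (R := C) y
    have hu' : algebraMap C D (u ^ P.natDegree) ∈ G := by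
      intro w
      have hw0 : (w : C') ∈ (Polynomial.aeval y (R := C)).range := by
        rw [← Algebra.adjoin_singleton_eq_range_aeval]
        exact w.2
      obtain ⟨F, hF⟩ := hw0
      have hw : (w : C') = Polynomial.aeval y (F %ₘ P) := by
        rw [← hF]
        exact (Polynomial.aeval_modByMonic_eq_self_of_root (show Polynomial.aeval y P = 0 from hP)).symm
      have : Nontrivial C := nontrivial_of_ne u 0 fun h => hup (h ▸ p.zero_mem)
      rw [hw, Subalgebra.coe_algebraMap]
      rcases eq_or_ne P 1 with rfl | hP1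
      · simp
      rw [Polynomial.aeval_eq_sum_range' (Polynomial.natDegree_modByMonic_lt F hPm hP1),
        Finset.mul_sum]
      refine sum_mem fun i hi => ?_
      rw [Algebra.smul_def, ← mul_assoc, mul_comm (algebraMap C C' _) (algebraMap C C' _), mul_assoc,
        show u ^ P.natDegree = u ^ (P.natDegree - i) * u ^ i by
          rw [← pow_add, Nat.sub_add_cancel (Finset.mem_range.1 hi).le],
        map_mul, mul_assoc, map_pow _ u i, ← mul_pow]
      exact mul_mem ⟨_, rfl⟩ (mul_mem ⟨_, rfl⟩ (pow_mem huy i))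
    exact hup (hp.isPrime.mem_of_pow_mem _ (hp.le hu'))

end LeadSymSn
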